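import Mathlib
import Cfsg.Prelude.Def_CaseTheorems
import Cfsg.Prelude.Def_Local
import Cfsg.Agent.Lib.Coprime.Commutator
import Cfsg.Agent.Lib.PLocal.Cores
import Cfsg.Agent.Lib.Blocks.Dihedral.Group

/-!
# Constrained groups with a Sylow `2`-subgroup having a cyclic maximal subgroup

The odd part of the order divides three, and when the cyclic maximal subgroup is the only one of
its kind at most two classes of elements have odd order.
-/

set_option linter.style.haveILetI false
set_option linter.unusedSectionVars false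

namespace Cfsg.Agent.Blocks.DihedralRank

universe u

/-- A cyclic subgroup of index two holding every element of the order of its generator. -/
def BigCyclic (D : Type*) [Group D] : Prop :=
  ∃ c : D, (Subgroup.zpowers c).index = 2 ∧
    ∀ d : D, orderOf d = orderOf c → d ∈ Subgroup.zpowers c

variable {G : Type u} [Group G] [Finite G]

theorem bigCyclic_congr {D E : Type*} [Group D] [Group E] (σ : D ≃* E) (h : BigCyclic D) :
    BigCyclic E := by
  obtain ⟨c, hi, hu⟩ := h
  have hmap : (Subgroup.zpowers c).map (σ : D →* E) = Subgroup.zpowers (σ c) :=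
    MonoidHom.map_zpowers _ _
  refine ⟨σ c, ?_, fun d hd => ?_⟩
  · rw [← hmap, Subgroup.index_map_equiv]; exact hi
  · have := hu (σ.symm d) (by rw [σ.symm.orderOf_eq, hd, σ.orderOf_eq])
    rw [← hmap]
    exact ⟨_, this, σ.apply_symm_apply d⟩

theorem bigCyclic_dih {D : Subgroup G} {r : D} {N : ℕ} (h : Dihedral.IsDih D r N) :
    BigCyclic D := by
  refine ⟨r, ?_, fun d hd => by_contra fun hn => ?_⟩
  · have h1 := (Subgroup.zpowers r).index_mul_card
    rw [h.card_R, h.card] at h1
    exact Nat.eq_of_mul_eq_mul_right (by have := h.four_le; omega) h1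
  · have h2 : orderOf d ∣ 2 := orderOf_dvd_of_pow_eq_one (by rw [pow_two]; exact h.sq d hn)
    have h3 := Nat.le_of_dvd two_pos h2
    have := h.four_le
    rw [hd, h.ord] at h3
    omega

section Quasi

variable {S : Type*} [Group S] {n : ℕ} (hn : 3 ≤ n) (hc : Nat.card S = 2 ^ (n + 1)) {x y : S}
  (hx : orderOf x = 2 ^ n) (hy : orderOf y = 2) (hyx : y * x * y⁻¹ = x ^ (2 ^ (n - 1) - 1))

include hn hc hx hy hyx

theorem quasi_notMem : y ∉ Subgroup.zpowers x := by
  intro hm
  obtain ⟨i, rfl⟩ := Subgroup.mem_zpowers_iff.1 hm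
  rw [← zpow_natCast, show x ^ i * x * (x ^ i)⁻¹ = x by group] at hyx
  have h8 : 4 ≤ 2 ^ (n - 1) :=
    le_trans (by norm_num) (Nat.pow_le_pow_right two_pos (by omega : 2 ≤ n - 1))
  rw [zpow_natCast] at hyx
  have h1 : x ^ 1 = x ^ (2 ^ (n - 1) - 1) := by rw [pow_one]; exact hyx
  have hlt : 2 ^ (n - 1) < 2 ^ n := Nat.pow_lt_pow_right one_lt_two (by omega)
  have := pow_injOn_Iio_orderOf (show (1 : ℕ) ∈ Set.Iio (orderOf x) by
      rw [Set.mem_Iio, hx]; omega)
    (show 2 ^ (n - 1) - 1 ∈ Set.Iio (orderOf x) by rw [Set.mem_Iio, hx]; omega) h1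
  omega

theorem quasi_index : (Subgroup.zpowers x).index = 2 := by
  have h1 := (Subgroup.zpowers x).index_mul_card
  rw [Nat.card_zpowers, hx, hc, pow_succ'] at h1
  exact Nat.eq_of_mul_eq_mul_right (by positivity) h1

theorem quasi_out {d : S} (hd : d ∉ Subgroup.zpowers x) :
    d * x * d⁻¹ = x ^ (2 ^ (n - 1) - 1) ∧
      ∃ i : ℤ, d * d = (x ^ (2 ^ (n - 1))) ^ i := by
  have h2 := quasi_index hn hc hx hy hyx
  have hny := quasi_notMem hn hc hx hy hyx
  have hdy : d * y ∈ Subgroup.zpowers x := by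
    rw [Subgroup.mul_mem_iff_of_index_two h2]
    exact iff_of_false hd hny
  obtain ⟨i, hi⟩ := Subgroup.mem_zpowers_iff.1 hdy
  have hyy : y * y = 1 := by rw [← pow_two, ← hy, pow_orderOf_eq_one]
  have hd' : d = x ^ i * y := by rw [hi, mul_assoc, hyy, mul_one]
  subst hd'
  refine ⟨?_, i, ?_⟩
  · rw [show x ^ i * y * x * (x ^ i * y)⁻¹ = x ^ i * (y * x * y⁻¹) * (x ^ i)⁻¹ by group, hyx,
      ← zpow_natCast]
    group
  · rw [show x ^ i * y * (x ^ i * y) = x ^ i * (y * x ^ i * y⁻¹) * (y * y) by group, hyy, mul_one,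
      ← conj_zpow, hyx]
    have h1 : 1 ≤ 2 ^ (n - 1) := Nat.one_le_two_pow
    rw [← zpow_natCast, ← zpow_natCast, ← zpow_mul, ← zpow_mul, ← zpow_add]
    congr 1
    push_cast [Nat.cast_sub h1]
    ring

theorem quasi_pow_sq : (x ^ (2 ^ (n - 1))) * x ^ (2 ^ (n - 1)) = 1 := by
  rw [← pow_add, ← two_mul, ← pow_succ', Nat.sub_add_cancel (by omega), ← hx, pow_orderOf_eq_one]

theorem quasi_out_order {d : S} (hd : d ∉ Subgroup.zpowers x) : orderOf d ≤ 4 := by
  obtain ⟨-, i, hi⟩ := quasi_out hn hc hx hy hyx hd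
  refine Nat.le_of_dvd (by omega) (orderOf_dvd_of_pow_eq_one ?_)
  rw [show d ^ 4 = d * d * (d * d) by rw [← pow_two, ← pow_two, ← pow_mul], hi, ← (Commute.refl _).mul_zpow,
    quasi_pow_sq hn hc hx hy hyx, one_zpow]

end Quasi

theorem bigCyclic_quasi {S : Type*} [Group S] (h : Cfsg.IsQuasiDihedral S) : BigCyclic S := by
  obtain ⟨n, hn, hc, x, y, hx, hy, hyx⟩ := h
  refine ⟨x, quasi_index hn hc hx hy hyx, fun d hd => by_contra fun hd' => ?_⟩
  have := quasi_out_order hn hc hx hy hyx hd'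
  have h8 : 2 ^ 3 ≤ 2 ^ n := Nat.pow_le_pow_right two_pos hn
  rw [hd, hx] at this
  omega

/-- An automorphism of odd order of a cyclic `2`-group is trivial. -/
theorem fixes_cyclic {x c : G} {m : ℕ} (hc : orderOf c = 2 ^ m) (hx : Odd (orderOf x))
    (hmem : x * c * x⁻¹ ∈ Subgroup.zpowers c) : x * c * x⁻¹ = c := by
  set C := Subgroup.zpowers c with hC
  have hxN : x ∈ Subgroup.normalizer (C : Set G) := by
    refine (Subgroup.mem_normalizer_fintype fun t ht => ?_)
    obtain ⟨i, rfl⟩ := Subgroup.mem_zpowers_iff.1 ht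
    rw [← conj_zpow]
    exact zpow_mem hmem i
  set τ : MulAut C := C.normalizerMonoidHom ⟨x, hxN⟩ with hτ
  have h1 : orderOf τ ∣ orderOf x := by
    have := orderOf_map_dvd C.normalizerMonoidHom ⟨x, hxN⟩
    rwa [Subgroup.orderOf_mk] at this
  have h2 : orderOf τ ∣ Nat.card (MulAut C) := orderOf_dvd_natCard τ
  rw [IsCyclic.card_mulAut, show Nat.card C = 2 ^ m by rw [Nat.card_zpowers, hc]] at h2
  have ht : τ = 1 := by
    rw [← orderOf_eq_one_iff]
    rcases Nat.eq_zero_or_pos m with hm | hm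
    · rw [hm] at h2; simpa using h2
    · rw [Nat.totient_prime_pow Nat.prime_two hm] at h2
      norm_num at h2
      exact Nat.eq_one_of_dvd_coprimes
        (Nat.Coprime.pow_right _ (Nat.coprime_two_right.2 hx)) h1 h2
  exact congrArg (fun t : C => (t : G))
    (DFunLike.congr_fun ht ⟨c, Subgroup.mem_zpowers c⟩)

/-- An element of odd order normalising such a group centralises it. -/
theorem centralizes_bigCyclic {S : Subgroup G} (hS : IsPGroup 2 S) (h : BigCyclic S) {x : G}
    (hx : Odd (orderOf x)) (hN : ∀ q ∈ S, x * q * x⁻¹ ∈ S) : ∀ q ∈ S, x * q * x⁻¹ = q := by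
  obtain ⟨c, hi, hu⟩ := h
  obtain ⟨m, hm⟩ := IsPGroup.iff_orderOf.1 hS c
  have hcG : orderOf (c : G) = 2 ^ m := by rw [Subgroup.orderOf_coe, hm]
  have hCS : ∀ t : S, t ∈ Subgroup.zpowers c → (t : G) ∈ Subgroup.zpowers (c : G) := by
    intro t ht
    obtain ⟨i, rfl⟩ := Subgroup.mem_zpowers_iff.1 ht
    exact ⟨i, by simp⟩
  have hfix : x * (c : G) * x⁻¹ = c := by
    refine fixes_cyclic hcG hx (hCS ⟨_, hN _ c.2⟩ (hu _ ?_))
    rw [← Subgroup.orderOf_coe, ← Subgroup.orderOf_coe]
    exact MulEquiv.orderOf_eq (MulAut.conj x) (c : G)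
  have hfixC : ∀ t : S, t ∈ Subgroup.zpowers c → x * (t : G) * x⁻¹ = t := by
    intro t ht
    obtain ⟨i, hi'⟩ := Subgroup.mem_zpowers_iff.1 (hCS t ht)
    rw [← hi', ← conj_zpow, hfix]
  intro q hq
  set t : S := ⟨q, hq⟩ with ht
  by_cases htC : t ∈ Subgroup.zpowers c
  · exact hfixC t htC
  set t' : S := ⟨x * q * x⁻¹, hN q hq⟩ with ht'
  have ht'C : t' ∉ Subgroup.zpowers c := fun hin => htC (by
    have h1 : x * (x * q * x⁻¹) * x⁻¹ = x * q * x⁻¹ := hfixC t' hin
    rwa [show t' = t from Subtype.ext (mul_left_cancel (mul_right_cancel h1))] at hin)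
  have hu' : t⁻¹ * t' ∈ Subgroup.zpowers c := by
    rw [Subgroup.mul_mem_iff_of_index_two hi, Subgroup.inv_mem_iff]
    exact iff_of_false htC ht'C
  obtain ⟨k, hk⟩ := hS (t⁻¹ * t')
  have h1 := Dihedral.eq_one_of_drift hx (t := q) (u := ((t⁻¹ * t' : S) : G))
    (by simp [ht, ht']) (hfixC _ hu') (k := k) (by rw [← Subgroup.coe_pow, hk]; rfl)
  simp only [ht, ht', Subgroup.coe_mul, Subgroup.coe_inv] at h1
  exact (inv_mul_eq_one.1 h1).symm

/-- Squares lie in the Frattini subgroup of a `2`-group. -/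
theorem mul_self_mem_frattini {F : Type*} [Group F] [Finite F] (hF : IsPGroup 2 F) (f : F) :
    f * f ∈ frattini F := by
  change f * f ∈ Order.radical (Subgroup F)
  rw [Order.radical]
  refine Subgroup.mem_iInf.2 fun M => Subgroup.mem_iInf.2 fun hM => ?_
  haveI := hF.isNilpotent
  haveI := Subgroup.NormalizerCondition.normal_of_coatom M
    Group.normalizerCondition_of_isNilpotent hM
  by_contra hn
  set π := QuotientGroup.mk' M
  set H := (Subgroup.zpowers (π (f * f))).comap π with hH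
  have hMH : M < H := by
    refine lt_of_le_of_ne (fun t ht => ?_) fun e => hn ?_
    · show π t ∈ Subgroup.zpowers (π (f * f))
      rw [show π t = 1 from (QuotientGroup.eq_one_iff t).2 ht]
      exact one_mem _
    · rw [e]
      exact Subgroup.mem_zpowers _
  have hf : π f ∈ Subgroup.zpowers (π (f * f)) := by
    have : f ∈ H := by rw [hM.2 _ hMH]; trivial
    exact this
  obtain ⟨k, hk⟩ := Subgroup.mem_zpowers_iff.1 hf
  obtain ⟨j, hj⟩ := IsPGroup.iff_orderOf.1 (hF.to_quotient M) (π f)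
  have h1 : π f ^ (2 * k - 1) = 1 := by
    rw [zpow_sub, zpow_one, zpow_mul, show π f ^ (2 : ℤ) = π (f * f) by
      rw [map_mul, zpow_two], hk, mul_inv_cancel]
  have h2 : ((orderOf (π f) : ℕ) : ℤ) ∣ 2 * k - 1 := orderOf_dvd_iff_zpow_eq_one.2 h1
  rcases Nat.eq_zero_or_pos j with rfl | hj0
  · rw [pow_zero, orderOf_eq_one_iff] at hj
    exact hn ((QuotientGroup.eq_one_iff (f * f)).1 (by
      show π (f * f) = 1
      rw [map_mul, hj, one_mul]))
  · have h3 : (2 : ℤ) ∣ 2 * k - 1 :=
      (Int.natCast_dvd_natCast.2 (hj ▸ dvd_pow_self 2 (by omega))).trans h2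
    omega

/-- Below a cyclic subgroup of index two there are two generators, so the Frattini quotient has at
most four elements. -/
theorem card_frattini_quot_le {F S : Subgroup G} (hS : IsPGroup 2 S) (h : BigCyclic S)
    (hFS : F ≤ S) : Nat.card (F ⧸ frattini F) ≤ 4 := by
  classical
  obtain ⟨c, hi, -⟩ := h
  set C : Subgroup F := (Subgroup.zpowers c).comap (Subgroup.inclusion hFS) with hC
  haveI hcyc : IsCyclic C := isCyclic_of_injective
    (((Subgroup.inclusion hFS).subgroupComap (Subgroup.zpowers c))) (fun a b e => by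
      refine Subtype.ext (Subgroup.inclusion_injective hFS ?_)
      exact congrArg Subtype.val e)
  obtain ⟨a, ha⟩ := IsCyclic.exists_generator (α := C)
  obtain ⟨b, hb⟩ : ∃ b : F, ∀ f : F, f ∉ C → b⁻¹ * f ∈ C := by
    by_cases hex : ∃ b : F, b ∉ C
    · obtain ⟨b, hb⟩ := hex
      refine ⟨b, fun f hf => ?_⟩
      show Subgroup.inclusion hFS (b⁻¹ * f) ∈ Subgroup.zpowers c
      rw [map_mul, map_inv, Subgroup.mul_mem_iff_of_index_two hi, Subgroup.inv_mem_iff]
      exact iff_of_false hb hf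
    · exact ⟨1, fun f hf => absurd ⟨f, hf⟩ hex⟩
  set π := QuotientGroup.mk' (frattini F)
  set A := π (a : F)
  set Bq := π b
  have hsq : ∀ q : F ⧸ frattini F, q * q = 1 := fun q => by
    obtain ⟨f, rfl⟩ := QuotientGroup.mk'_surjective _ q
    rw [← map_mul]
    exact (QuotientGroup.eq_one_iff _).2 (mul_self_mem_frattini (hS.to_le hFS) f)
  have hA : ∀ f : F, f ∈ C → π f = 1 ∨ π f = A := by
    intro f hf
    obtain ⟨i, hi'⟩ := Subgroup.mem_zpowers_iff.1 (ha ⟨f, hf⟩)
    have : f = (a : F) ^ i := by rw [← Subgroup.coe_zpow, hi']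
    rw [this, map_zpow]
    rcases Int.even_or_odd i with ⟨k, rfl⟩ | ⟨k, rfl⟩
    · left; rw [zpow_add, ← (Commute.refl _).mul_zpow, hsq, one_zpow]
    · right; rw [zpow_add, zpow_one, two_mul, zpow_add, ← (Commute.refl _).mul_zpow, hsq,
        one_zpow, one_mul]
  have hcov : (Finset.univ : Finset (Fin 2 × Fin 2)).card = 4 := rfl
  rw [← hcov]
  have hsurj : Function.Surjective
      fun e : Fin 2 × Fin 2 => Bq ^ (e.1 : ℕ) * A ^ (e.2 : ℕ) := by
    intro q
    obtain ⟨f, rfl⟩ := QuotientGroup.mk'_surjective _ q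
    by_cases hf : f ∈ C
    · rcases hA f hf with e | e
      · exact ⟨(0, 0), by simp [e]; exact e.symm⟩
      · exact ⟨(0, 1), by simp; exact e.symm⟩
    · have hsplit : π f = Bq * π (b⁻¹ * f) := by rw [← map_mul, mul_inv_cancel_left]
      rcases hA _ (hb f hf) with e | e
      · exact ⟨(1, 0), by
          show Bq ^ 1 * A ^ 0 = π f
          rw [hsplit, e, pow_one, pow_zero]⟩
      · exact ⟨(1, 1), by
          show Bq ^ 1 * A ^ 1 = π f
          rw [hsplit, e, pow_one, pow_one]⟩
  calc Nat.card (F ⧸ frattini F) ≤ Nat.card (Fin 2 × Fin 2) :=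
        Nat.card_le_card_of_surjective _ hsurj
    _ = _ := by simp

section Constrained

variable {X : Type u} [Group X] [Finite X]
  (hcent : Subgroup.centralizer (Cfsg.pCore 2 X : Set X) ≤ Cfsg.pCore 2 X)

include hcent

/-- The odd part of the order is one or three. -/
theorem card_eq_two_pow_or_three (S : Sylow 2 X) (h : BigCyclic S) :
    ∃ a : ℕ, Nat.card X = 2 ^ a ∨ Nat.card X = 3 * 2 ^ a := by
  classical
  set F := Cfsg.pCore 2 X with hF
  haveI hFn : F.Normal := Cfsg.Agent.PLocal.Cores.pCore_normal'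
  have hFS : F ≤ (S : Subgroup X) := Cfsg.Agent.PLocal.Cores.pCore_le_sylow S
  have hFp : IsPGroup 2 F := S.isPGroup'.to_le hFS
  set Q := F ⧸ frattini F
  let ψ : X →* Equiv.Perm Q :=
    { toFun := fun x => (QuotientGroup.congr (frattini F) (frattini F) (MulAut.conjNormal x)
        (Subgroup.characteristic_iff_map_eq.1 inferInstance _)).toEquiv
      map_one' := Equiv.ext fun q => by
        obtain ⟨f, rfl⟩ := QuotientGroup.mk'_surjective _ q
        show ((MulAut.conjNormal (1 : X) f : F) : Q) = (f : Q)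
        rw [map_one]; rfl
      map_mul' := fun x y => Equiv.ext fun q => by
        obtain ⟨f, rfl⟩ := QuotientGroup.mk'_surjective _ q
        show ((MulAut.conjNormal (x * y) f : F) : Q) =
          ((MulAut.conjNormal x (MulAut.conjNormal y f) : F) : Q)
        rw [map_mul]; rfl }
  have hker : IsPGroup 2 ψ.ker := by
    have hone : ∀ x : X, ψ x = 1 → Odd (orderOf x) → x = 1 := by
      intro x hx ho
      have hle : Subgroup.zpowers x ≤ Subgroup.centralizer (F : Set X) := by
        refine Cfsg.Agent.Coprime.le_centralizer_of_frattini ?_ ?_ ?_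
        · rw [Subgroup.normalizer_eq_top]; exact le_top
        · obtain ⟨k, hk⟩ := (hFp.to_subgroup (frattini F)).exists_card_eq
          rw [hk, Nat.card_zpowers]
          exact Nat.Coprime.pow_right k (Nat.coprime_two_right.2 ho)
        · intro a ha f hf
          have ha' : ψ a = 1 := by
            obtain ⟨i, rfl⟩ := Subgroup.mem_zpowers_iff.1 ha
            rw [map_zpow, hx, one_zpow]
          have h1 : ((MulAut.conjNormal a ⟨f, hf⟩ : F) : Q) = ((⟨f, hf⟩ : F) : Q) :=
            congrFun (congrArg DFunLike.coe ha') ((⟨f, hf⟩ : F) : Q)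
          rw [QuotientGroup.eq_iff_div_mem] at h1
          exact ⟨_, h1, by simp [div_eq_mul_inv]⟩
      obtain ⟨k, hk⟩ := IsPGroup.iff_orderOf.1 hFp ⟨x, hcent (hle (Subgroup.mem_zpowers x))⟩
      rw [Subgroup.orderOf_mk] at hk
      rw [← orderOf_eq_one_iff]
      exact Nat.eq_one_of_dvd_coprimes
        (Nat.Coprime.pow_right k (Nat.coprime_two_right.2 ho)) dvd_rfl (hk ▸ dvd_rfl)
    obtain ⟨a, m, hm, hd⟩ := Nat.exists_eq_two_pow_mul_odd (Nat.card_pos (α := ψ.ker)).ne'
    refine IsPGroup.of_card (n := a) ?_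
    rw [hd]
    suffices m = 1 by rw [this, mul_one]
    by_contra hne
    obtain ⟨q, hq, hqm⟩ := Nat.exists_prime_and_dvd hne
    haveI := Fact.mk hq
    obtain ⟨x, hx⟩ := exists_prime_orderOf_dvd_card' (G := ψ.ker) q
      (hqm.trans (hd ▸ dvd_mul_left m _))
    have hx1 : (x : X) = 1 := hone x x.2 (by
      rw [Subgroup.orderOf_coe, hx]
      exact Odd.of_dvd_nat hm hqm)
    rw [show x = 1 from Subtype.ext hx1, orderOf_one] at hx
    exact hq.ne_one hx.symm
  obtain ⟨a, ha⟩ := hker.exists_card_eq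
  have hidx : ψ.ker.index ∣ 24 := by
    rw [Subgroup.index_ker]
    refine (Subgroup.card_subgroup_dvd_card _).trans ?_
    rw [Nat.card_perm]
    exact (Nat.factorial_dvd_factorial (card_frattini_quot_le S.isPGroup' h hFS)).trans
      (by simp [Nat.factorial])
  have hcard := ψ.ker.card_mul_index
  rw [ha] at hcard
  obtain ⟨d, hd⟩ := hidx
  have hdvd : Nat.card X ∣ 3 * 2 ^ (a + 3) := ⟨d, by rw [← hcard, mul_assoc, ← hd]; ring⟩
  obtain ⟨u, v, hu, hv, huv⟩ := Nat.dvd_mul.1 hdvd
  obtain ⟨i, -, rfl⟩ := (Nat.dvd_prime_pow Nat.prime_two).1 hv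
  rcases (Nat.dvd_prime Nat.prime_three).1 hu with rfl | rfl
  · exact ⟨i, Or.inl (by rw [← huv, one_mul])⟩
  · exact ⟨i, Or.inr huv.symm⟩

/-- Two elements represent the classes of elements of odd order. -/
theorem regular_classes (S : Sylow 2 X) (h : BigCyclic S) :
    ∃ a b : X, ∀ y : X, Odd (orderOf y) → IsConj a y ∨ IsConj b y := by
  classical
  obtain ⟨k, hk⟩ := card_eq_two_pow_or_three hcent S h
  have hord : ∀ y : X, Odd (orderOf y) → orderOf y ∣ 3 := fun y hy => by
    have := orderOf_dvd_natCard y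
    rcases hk with e | e <;> rw [e] at this
    · rw [Nat.eq_one_of_dvd_coprimes (Nat.Coprime.pow_right k (Nat.coprime_two_right.2 hy))
        dvd_rfl this]
      exact one_dvd _
    · exact (Nat.Coprime.pow_right k (Nat.coprime_two_right.2 hy)).dvd_of_dvd_mul_right this
  rcases hk with e | e
  · refine ⟨1, 1, fun y hy => Or.inl ?_⟩
    have := orderOf_dvd_natCard y
    rw [e] at this
    rw [orderOf_eq_one_iff.1 (Nat.eq_one_of_dvd_coprimes
      (Nat.Coprime.pow_right k (Nat.coprime_two_right.2 hy)) dvd_rfl this)]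
  haveI : Fact (Nat.Prime 3) := ⟨Nat.prime_three⟩
  have h3 : (Nat.card X).factorization 3 = 1 := by
    rw [e, Nat.factorization_mul (by omega) (by positivity), Finsupp.add_apply,
      Nat.prime_three.factorization_self, Nat.factorization_eq_zero_of_not_dvd]
    intro hd
    have := (Nat.prime_dvd_prime_iff_eq Nat.prime_three Nat.prime_two).1
      (Nat.prime_three.dvd_of_dvd_pow hd)
    omega
  obtain ⟨x, hx⟩ := exists_prime_orderOf_dvd_card' (G := X) 3 (e ▸ dvd_mul_right 3 _)
  set P : Sylow 3 X := Sylow.ofCard (Subgroup.zpowers x) (by rw [Nat.card_zpowers, hx, h3]; rfl)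
    with hP
  have hPcoe : (P : Subgroup X) = Subgroup.zpowers x := rfl
  have hmemP : ∀ t : X, t ∈ Subgroup.zpowers x → t = 1 ∨ t = x ∨ t = x⁻¹ := by
    intro t ht
    obtain ⟨i, hi, rfl⟩ := Finset.mem_image.1
      ((isOfFinOrder_of_finite x).mem_zpowers_iff_mem_range_orderOf.1 ht)
    rw [hx, Finset.mem_range] at hi
    interval_cases i
    · exact Or.inl (pow_zero x)
    · exact Or.inr (Or.inl (pow_one x))
    · refine Or.inr (Or.inr (eq_inv_of_mul_eq_one_left ?_))
      rw [← pow_succ, show (2 + 1 : ℕ) = orderOf x from hx.symm, pow_orderOf_eq_one]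
  have hclass : ∀ y : X, Odd (orderOf y) → IsConj 1 y ∨ IsConj x y ∨ IsConj x⁻¹ y := by
    intro y hy
    have hy3 : IsPGroup 3 (Subgroup.zpowers y) := IsPGroup.iff_card.2 (by
      rcases (Nat.dvd_prime Nat.prime_three).1 (hord y hy) with e1 | e1
      · exact ⟨0, by rw [Nat.card_zpowers, e1, pow_zero]⟩
      · exact ⟨1, by rw [Nat.card_zpowers, e1, pow_one]⟩)
    obtain ⟨P', hP'⟩ := hy3.exists_le_sylow
    obtain ⟨g, hg⟩ := MulAction.exists_smul_eq X P P'
    have : y ∈ (P' : Subgroup X) := hP' (Subgroup.mem_zpowers y)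
    rw [← hg, Sylow.coe_subgroup_smul, hPcoe] at this
    obtain ⟨t, ht, hty⟩ := this
    have hty' : IsConj t y := isConj_iff.2 ⟨g, hty⟩
    rcases hmemP t ht with rfl | rfl | rfl
    exacts [Or.inl hty', Or.inr (Or.inl hty'), Or.inr (Or.inr hty')]
  by_cases hconj : IsConj x x⁻¹
  · exact ⟨1, x, fun y hy => (hclass y hy).imp id fun h' => h'.elim id hconj.trans⟩
  exfalso
  have hNC : Subgroup.normalizer ((P : Subgroup X) : Set X) ≤
      Subgroup.centralizer ((P : Subgroup X) : Set X) := by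
    intro g hg
    rw [hPcoe] at hg ⊢
    have h1 := (Subgroup.mem_normalizer_iff.1 hg x).1 (Subgroup.mem_zpowers x)
    have h2 : g * x * g⁻¹ = x := by
      rcases hmemP _ h1 with e1 | e1 | e1
      · have : x = 1 := by simpa using e1
        rw [this, orderOf_one] at hx; omega
      · exact e1
      · exact absurd (isConj_iff.2 ⟨g, e1⟩) hconj
    rw [Subgroup.zpowers_eq_closure, Subgroup.centralizer_closure]
    exact Subgroup.mem_centralizer_singleton_iff.2 (mul_inv_eq_iff_eq_mul.1 h2)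
  have hcompl := MonoidHom.ker_transferSylow_isComplement' P hNC
  set K := (MonoidHom.transferSylow P hNC).ker
  have hKc : Nat.card K = 2 ^ k := by
    have h1 := hcompl.card_mul_card
    rw [e, hPcoe, Nat.card_zpowers, hx, mul_comm] at h1
    exact Nat.eq_of_mul_eq_mul_left (by omega) h1
  have hK2 : IsPGroup 2 K := IsPGroup.of_card hKc
  haveI : K.Normal := MonoidHom.normal_ker _
  have hKS : K ≤ (S : Subgroup X) := hK2.le_sylow_of_normal S
  have hS : (Nat.card X).factorization 2 = k := by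
    rw [e, Nat.factorization_mul (by omega) (by positivity), Finsupp.add_apply,
      Nat.factorization_eq_zero_of_not_dvd (by omega), Nat.prime_two.factorization_pow,
      Finsupp.single_eq_same, zero_add]
  have hKeq : (S : Subgroup X) = K := (Subgroup.eq_of_le_of_card_ge hKS (by
    rw [S.card_eq_multiplicity, hS, hKc])).symm
  have hxo : Odd (orderOf x) := by rw [hx]; decide
  have hxc : x ∈ Subgroup.centralizer (Cfsg.pCore 2 X : Set X) := by
    rw [Subgroup.mem_centralizer_iff]
    intro q hq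
    have h1 := centralizes_bigCyclic S.isPGroup' h hxo (fun q hq => by
      rw [hKeq] at hq ⊢
      exact (MonoidHom.normal_ker _).conj_mem q hq x) q
        (Cfsg.Agent.PLocal.Cores.pCore_le_sylow S hq)
    exact (mul_inv_eq_iff_eq_mul.1 h1).symm
  have h2 := S.isPGroup'.to_le (Cfsg.Agent.PLocal.Cores.pCore_le_sylow S)
  obtain ⟨j, hj⟩ := IsPGroup.iff_orderOf.1 h2 ⟨x, hcent hxc⟩
  rw [Subgroup.orderOf_mk, hx] at hj
  rcases Nat.eq_zero_or_pos j with rfl | hj0
  · omega
  · have : 2 ∣ 3 := hj ▸ dvd_pow_self 2 (by omega)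
    omega

end Constrained

end Cfsg.Agent.Blocks.DihedralRank
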