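import Mathlib
import Cfsg.Agent.Lib.Blocks.Dihedral.Main
import Cfsg.Agent.Lib.Blocks.DihedralRank.Group
import Cfsg.Agent.Lib.Blocks.QuotientDefect
import Cfsg.Agent.Lib.CharTheory.CyclicCofactor.QuotientTable

/-!
# A central involution leaves a tame block at most two Brauer characters
-/

set_option linter.style.haveILetI false
set_option linter.unusedSectionVars false

namespace Cfsg.Agent.Blocks.DihedralRank

open Cfsg.Agent.Blocks Cfsg.Agent.Characters Cfsg.Agent.Blocks.Star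
open Cfsg.Agent.Blocks.CentralStep Cfsg.Agent.Blocks.Dihedral
open Cfsg.Agent.BlockCharsA.BrauerPairs Cfsg.Agent.BlockCharsA.PairConj

universe u

variable {G : Type u} [Group G] [Finite G] {M : Ideal Cfsg.AlgInt}
  {B : Set (Cfsg.IrrCharacter G)}

/-- A reflection not conjugate to the central involution leaves at most two Brauer characters. -/
theorem rank_le_two_of_unfused (hM : Cfsg.IsPModular 2 M) (hB : Cfsg.IsPBlock M B) {P : Subgroup G}
    (hP : Cfsg.IsDefectGroup 2 M B P) {r : P} {N : ℕ} (h : IsDih P r N) {s : P}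
    (hs : s ∉ Subgroup.zpowers r)
    (hne : ∀ x : G, x * (s : G) * x⁻¹ ≠ ((cz r N : P) : G)) :
    Cfsg.blockRank 2 B ≤ 2 := by
  classical
  obtain ⟨e, hmax⟩ := Cfsg.Agent.BlockCharsA.PairCorr.exists_maximal_on hM hB hP
  haveI := Fintype.ofFinite G
  haveI := Fintype.ofFinite (Cfsg.IrrCharacter G)
  haveI := Fintype.ofFinite (CU ((cz r N : P) : G))
  haveI := Fintype.ofFinite (Cfsg.IrrCharacter (top' P ((cz r N : P) : G)))
  have h4 := h.four_le
  obtain ⟨L⟩ := exists_loc hM hmax (mem_centralizer_cz h) (isNilpotent_central hM hmax h)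
  let v : Option (Fin (N / 2)) → P := fun o => o.elim s fun i => r ^ ((i : ℕ) + 1)
  have hp1 : ∀ i : Fin (N / 2), r ^ ((i : ℕ) + 1) ≠ 1 := fun i =>
    pow_ne_one' h (by omega) (by omega)
  have hs1 : s ≠ 1 := fun e => hs (e ▸ one_mem _)
  have hsr : ∀ i : Fin (N / 2), ¬ Fused 2 M e s (r ^ ((i : ℕ) + 1)) := by
    rintro i ⟨x, hx, -⟩
    have h2 : (r ^ ((i : ℕ) + 1)) * (r ^ ((i : ℕ) + 1)) = 1 := Subtype.ext (by
      rw [Subgroup.coe_mul, hx, show x * (s : G) * x⁻¹ * (x * (s : G) * x⁻¹) =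
        x * ((s : G) * s) * x⁻¹ by group, ← Subgroup.coe_mul, h.sq s hs]
      simp)
    rcases h.sq_eq_one (Subgroup.npow_mem_zpowers r _) h2 with e1 | e1
    · exact hp1 i e1
    · exact hne x (hx.symm.trans (congrArg Subtype.val e1))
  have := rank_add_le hM hmax v
    (by rintro (_ | i)
        exacts [hs1, hp1 i])
    (by
      rintro (_ | i) (_ | j) hij hf
      · exact hij rfl
      · exact hsr j hf
      · exact hsr i hf.symm
      · have hinj : ∀ {a b : ℕ}, a < N → b < N → r ^ a = r ^ b → a = b := fun ha hb e =>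
          pow_injOn_Iio_orderOf (h.ord.symm ▸ ha) (h.ord.symm ▸ hb) e
        rcases fused_rot hM hmax h L (Subgroup.npow_mem_zpowers r _) (hp1 i)
          (Subgroup.npow_mem_zpowers r _) hf with e1 | e1
        · have := hinj (by omega) (by omega) e1
          exact hij (congrArg some (Fin.ext (by omega)))
        · rw [← pow_sub_inv h (show (i : ℕ) + 1 ≤ N by omega)] at e1
          have := hinj (by omega) (by omega) e1
          exact hij (congrArg some (Fin.ext (by omega))))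
  rw [Fintype.card_option, Fintype.card_fin] at this
  have := (invariants hM hmax h).1
  omega

/-- Dihedral defect group and a central involution. -/
theorem rank_le_two_dih (hM : Cfsg.IsPModular 2 M) (hB : Cfsg.IsPBlock M B) {D : Subgroup G}
    (hD : Cfsg.IsDefectGroup 2 M B D) {r : D} {N : ℕ} (h : IsDih D r N) {u : G}
    (hu : u ∈ Subgroup.center G) (huD : u ∈ D) (hu2 : orderOf u = 2) :
    Cfsg.blockRank 2 B ≤ 2 := by
  set u' : D := ⟨u, huD⟩
  have hu1 : u' ≠ 1 := fun e => by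
    rw [show u = 1 from congrArg Subtype.val e, orderOf_one] at hu2; omega
  have huu : u' * u' = 1 := Subtype.ext (by
    show u * u = 1
    rw [← pow_two, ← hu2, pow_orderOf_eq_one])
  have huR : u' ∈ Subgroup.zpowers r := by
    by_contra hn
    have h1 : u' * r * u'⁻¹ = r := Subtype.ext (by
      show u * (r : G) * u⁻¹ = (r : G)
      rw [← Subgroup.mem_center_iff.1 hu, mul_inv_cancel_right])
    rw [h.inv u' hn] at h1
    have h2 : r ^ 2 = 1 := by
      rw [pow_two]
      exact inv_eq_iff_mul_eq_one.1 h1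
    have := Nat.le_of_dvd two_pos (h.ord ▸ orderOf_dvd_of_pow_eq_one h2)
    have := h.four_le
    omega
  have huz : u' = cz r N := (h.sq_eq_one huR huu).resolve_left hu1
  obtain ⟨s, hs⟩ := h.exists_out
  refine rank_le_two_of_unfused hM hB hD h hs fun x hx => hs ?_
  rw [← huz] at hx
  have hxu : x⁻¹ * u * x = u := by
    rw [Subgroup.mem_center_iff.1 hu, inv_mul_cancel_right]
  have : (s : G) = u := by
    rw [← hxu, show u = (u' : G) from rfl, ← hx]
    group
  rw [show s = u' from Subtype.ext this]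
  exact huR

section Quasi

variable {S : Type*} [Group S] {n : ℕ} (hn : 3 ≤ n) (hc : Nat.card S = 2 ^ (n + 1)) {x y : S}
  (hx : orderOf x = 2 ^ n) (hy : orderOf y = 2) (hyx : y * x * y⁻¹ = x ^ (2 ^ (n - 1) - 1))

include hn hc hx hy hyx

theorem quasi_central_eq {d : S} (hd : ∀ t : S, t * d = d * t) (h2 : orderOf d = 2) :
    d = x ^ (2 ^ (n - 1)) := by
  classical
  have h8 : 4 ≤ 2 ^ (n - 1) :=
    le_trans (by norm_num) (Nat.pow_le_pow_right two_pos (by omega : 2 ≤ n - 1))
  have hlt : 2 ^ (n - 1) < 2 ^ n := Nat.pow_lt_pow_right one_lt_two (by omega)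
  have hdC : d ∈ Subgroup.zpowers x := by
    by_contra hn'
    have h1 := (quasi_out hn hc hx hy hyx hn').1
    rw [← hd, mul_inv_cancel_right] at h1
    have h1' : x ^ 1 = x ^ (2 ^ (n - 1) - 1) := by rw [pow_one]; exact h1
    have := pow_injOn_Iio_orderOf (show (1 : ℕ) ∈ Set.Iio (orderOf x) by
        rw [Set.mem_Iio, hx]; omega)
      (show 2 ^ (n - 1) - 1 ∈ Set.Iio (orderOf x) by rw [Set.mem_Iio, hx]; omega) h1'
    omega
  obtain ⟨i, hi, rfl⟩ := Finset.mem_image.1 ((isOfFinOrder_iff_pow_eq_one.2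
    ⟨2 ^ n, by positivity, hx ▸ pow_orderOf_eq_one x⟩).mem_zpowers_iff_mem_range_orderOf.1 hdC)
  rw [Finset.mem_range] at hi
  have hdvd : orderOf x ∣ 2 * i := orderOf_dvd_of_pow_eq_one (by
    rw [mul_comm, pow_mul, ← h2, pow_orderOf_eq_one])
  rw [hx, show (2 : ℕ) ^ n = 2 * 2 ^ (n - 1) by rw [← pow_succ', Nat.sub_add_cancel (by omega)]]
    at hdvd hi
  obtain ⟨k, rfl⟩ := Nat.dvd_of_mul_dvd_mul_left two_pos hdvd
  have hk2 : k < 2 := by
    by_contra hk
    have : 2 ^ (n - 1) * 2 ≤ 2 ^ (n - 1) * k := Nat.mul_le_mul_left _ (by omega)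
    omega
  interval_cases k
  · rw [mul_zero, pow_zero, orderOf_one] at h2; omega
  · rw [mul_one]

end Quasi

/-- Semidihedral defect group and a central involution. -/
theorem rank_le_two_quasi (hM : Cfsg.IsPModular 2 M) (hB : Cfsg.IsPBlock M B) {D : Subgroup G}
    (hD : Cfsg.IsDefectGroup 2 M B D) (hQ : Cfsg.IsQuasiDihedral D) {u : G}
    (hu : u ∈ Subgroup.center G) (huD : u ∈ D) (hu2 : orderOf u = 2) :
    Cfsg.blockRank 2 B ≤ 2 := by
  obtain ⟨n, hn, hc, x, y, hx, hy, hyx⟩ := hQ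
  have huz : (⟨u, huD⟩ : D) = x ^ (2 ^ (n - 1)) := quasi_central_eq hn hc hx hy hyx
    (fun t => Subtype.ext (Subgroup.mem_center_iff.1 hu t)) (by rw [Subgroup.orderOf_mk, hu2])
  have huG : u = (x : G) ^ (2 ^ (n - 1)) := by
    rw [← Subgroup.coe_pow, ← huz]
  set Z := Subgroup.zpowers u with hZ
  have hZc : Z ≤ Subgroup.center G := (Subgroup.zpowers_le).2 hu
  haveI hZn : Z.Normal := ⟨fun t ht a => by
    rwa [Subgroup.mem_center_iff.1 (hZc ht) a, mul_inv_cancel_right]⟩
  have hZp : IsPGroup 2 Z := IsPGroup.of_card (n := 1) (by rw [Nat.card_zpowers, hu2, pow_one])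
  obtain ⟨Bb, hBb, hsub, hdef⟩ := exists_block_quotient hM hZp hB
  refine le_trans (Cfsg.Agent.CharTheory.CyclicCofactor.blockRank_le hM hZp hZc hB hBb hsub) ?_
  set f := QuotientGroup.mk' Z with hf
  set D' := D.map f with hD'
  have hD'd : Cfsg.IsDefectGroup 2 M Bb D' := (hdef _).2 ⟨D, hD, rfl⟩
  let g : D →* D' := f.subgroupMap D
  have hgs : Function.Surjective g := f.subgroupMap_surjective D
  have hgc : ∀ d : D, ((g d : D') : G ⧸ Z) = f d := fun _ => rfl
  have hmemZ : ∀ t : G, t ∈ Z → t = 1 ∨ t = u := by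
    classical
    intro t ht
    obtain ⟨i, hi, rfl⟩ := Finset.mem_image.1
      ((isOfFinOrder_of_finite u).mem_zpowers_iff_mem_range_orderOf.1 ht)
    rw [hu2, Finset.mem_range] at hi
    interval_cases i
    · exact Or.inl (pow_zero u)
    · exact Or.inr (pow_one u)
  have hgker : ∀ d : D, g d = 1 ↔ d = 1 ∨ d = x ^ (2 ^ (n - 1)) := by
    intro d
    rw [← huz, Subtype.ext_iff, hgc, OneMemClass.coe_one]
    rw [show (f (d : G) = 1) = ((d : G) ∈ Z) from propext (QuotientGroup.eq_one_iff _)]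
    refine ⟨fun h => ?_, fun h => ?_⟩
    · rcases hmemZ _ h with e | e
      · exact Or.inl (Subtype.ext e)
      · exact Or.inr (Subtype.ext e)
    · rcases h with e | e <;> subst e
      exacts [one_mem _, Subgroup.mem_zpowers u]
  have h8 : 4 ≤ 2 ^ (n - 1) :=
    le_trans (by norm_num) (Nat.pow_le_pow_right two_pos (by omega : 2 ≤ n - 1))
  have hsplit : (2 : ℕ) ^ n = 2 * 2 ^ (n - 1) := by
    rw [← pow_succ', Nat.sub_add_cancel (by omega)]
  have hker_out : ∀ d : D, g d = 1 → d ∈ Subgroup.zpowers x := fun d hd => by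
    rcases (hgker d).1 hd with rfl | rfl
    exacts [one_mem _, Subgroup.npow_mem_zpowers x _]
  have hr : orderOf (g x) = 2 ^ (n - 1) := by
    have hp : g x ^ (2 ^ (n - 1)) = 1 := by rw [← map_pow]; exact (hgker _).2 (Or.inr rfl)
    obtain ⟨i, hi, he⟩ := (Nat.dvd_prime_pow Nat.prime_two).1 (orderOf_dvd_of_pow_eq_one hp)
    rw [he]
    congr 1
    by_contra hne
    have h1 : g x ^ (2 ^ (n - 2)) = 1 := by
      refine orderOf_dvd_iff_pow_eq_one.1 ?_
      rw [he]
      exact pow_dvd_pow 2 (by omega)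
    rw [← map_pow] at h1
    have hlt : 2 ^ (n - 2) < 2 ^ (n - 1) := Nat.pow_lt_pow_right one_lt_two (by omega)
    rcases (hgker _).1 h1 with e | e
    · have := Nat.le_of_dvd (by positivity) (orderOf_dvd_of_pow_eq_one e)
      rw [hx] at this
      omega
    · have := pow_injOn_Iio_orderOf (show 2 ^ (n - 2) ∈ Set.Iio (orderOf x) by
          rw [Set.mem_Iio, hx]; omega)
        (show 2 ^ (n - 1) ∈ Set.Iio (orderOf x) by rw [Set.mem_Iio, hx]; omega) e
      omega
  have hout : ∀ w : D', w ∉ Subgroup.zpowers (g x) → ∃ d : D, d ∉ Subgroup.zpowers x ∧ g d = w := by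
    intro w hw
    obtain ⟨d, rfl⟩ := hgs w
    refine ⟨d, fun hd => hw ?_, rfl⟩
    obtain ⟨i, rfl⟩ := Subgroup.mem_zpowers_iff.1 hd
    exact ⟨i, (map_zpow g x i).symm⟩
  have hcardD : Nat.card D' = 2 * 2 ^ (n - 1) := by
    have h1 : Nat.card D' = Nat.card (D ⧸ g.ker) :=
      (Nat.card_congr (QuotientGroup.quotientKerEquivOfSurjective g hgs).toEquiv).symm
    have h2 : Nat.card g.ker = 2 := by
      refine le_antisymm ?_ ?_
      · classical
        refine le_trans (Nat.card_le_card_of_surjective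
          (fun b : Bool => if b then (⟨1, (hgker 1).2 (Or.inl rfl)⟩ : g.ker)
            else ⟨x ^ (2 ^ (n - 1)), (hgker _).2 (Or.inr rfl)⟩) fun k => ?_) (by simp)
        rcases (hgker k.1).1 k.2 with e | e
        · exact ⟨true, Subtype.ext e.symm⟩
        · exact ⟨false, Subtype.ext e.symm⟩
      · rw [← hu2, ← Subgroup.orderOf_mk u huD, huz,
          ← Subgroup.orderOf_mk (x ^ (2 ^ (n - 1))) (show x ^ (2 ^ (n - 1)) ∈ g.ker from
            (hgker _).2 (Or.inr rfl))]
        exact Nat.le_of_dvd Nat.card_pos (orderOf_dvd_natCard _)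
    have h3 := Subgroup.card_eq_card_quotient_mul_card_subgroup g.ker
    rw [hc, h2, ← h1, pow_succ, hsplit] at h3
    omega
  have hIs : IsDih D' (g x) (2 ^ (n - 1)) := by
    refine ⟨hr, ⟨n - 1, by omega, rfl⟩, hcardD, fun w hw => ?_, fun w hw => ?_⟩
    all_goals
      obtain ⟨d, hd, rfl⟩ := hout w hw
      obtain ⟨h1, i, h2⟩ := quasi_out hn hc hx hy hyx hd
    · rw [← map_mul, h2, map_zpow, (hgker _).2 (Or.inr rfl), one_zpow]
    · rw [← map_inv, ← map_mul, ← map_mul, h1, ← mul_inv_eq_one, inv_inv, map_pow, ← pow_succ,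
        Nat.sub_add_cancel (by omega), ← map_pow]
      exact (hgker _).2 (Or.inr rfl)
  have hyC := quasi_notMem hn hc hx hy hyx
  have hys : g y ∉ Subgroup.zpowers (g x) := by
    intro hm
    obtain ⟨i, hi⟩ := Subgroup.mem_zpowers_iff.1 hm
    have : g (y * (x ^ i)⁻¹) = 1 := by rw [map_mul, map_inv, map_zpow, hi, mul_inv_cancel]
    refine hyC ?_
    have h1 := mul_mem (hker_out _ this) (zpow_mem (Subgroup.mem_zpowers x) i)
    rwa [inv_mul_cancel_right] at h1
  refine rank_le_two_of_unfused hM hBb hD'd hIs hys fun q hq => ?_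
  obtain ⟨a, rfl⟩ := QuotientGroup.mk'_surjective Z q
  have hcz : ((cz (g x) (2 ^ (n - 1)) : D') : G ⧸ Z) = f ((x : G) ^ (2 ^ (n - 2))) := by
    rw [cz, Subgroup.coe_pow, hgc, map_pow]
    congr 1
    rw [show n - 1 = n - 2 + 1 by omega, pow_succ, Nat.mul_div_cancel _ two_pos]
  rw [hcz, hgc, ← map_mul, ← map_inv, ← map_mul] at hq
  obtain hmem := QuotientGroup.eq.1 hq
  set w := a * (y : G) * a⁻¹ with hw
  have hw2 : w * w = 1 := by
    rw [hw, show a * (y : G) * a⁻¹ * (a * (y : G) * a⁻¹) = a * ((y : G) * y) * a⁻¹ by group,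
      ← Subgroup.coe_mul, ← pow_two, ← hy, pow_orderOf_eq_one]
    simp
  rcases hmemZ _ hmem with e | e
  · rw [inv_mul_eq_one] at e
    rw [e, ← pow_add, ← two_mul, ← pow_succ', show n - 2 + 1 = n - 1 by omega, ← huG] at hw2
    rw [hw2, orderOf_one] at hu2
    omega
  · rw [inv_mul_eq_iff_eq_mul] at e
    have hxsq : ((x : G) ^ (2 ^ (n - 2))) * (x : G) ^ (2 ^ (n - 2)) = u := by
      rw [← pow_add, ← two_mul, ← pow_succ', show n - 2 + 1 = n - 1 by omega, ← huG]
    have h1 : w = (x : G) ^ (2 ^ (n - 2)) * u⁻¹ := by rw [e, mul_inv_cancel_right]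
    rw [h1, Commute.mul_mul_mul_comm (Subgroup.mem_center_iff.1
      (Subgroup.inv_mem _ hu) _).symm, hxsq] at hw2
    have h2 : u⁻¹ * u⁻¹ = 1 := by
      rw [← mul_inv_rev, ← pow_two, ← hu2, pow_orderOf_eq_one, inv_one]
    rw [h2, mul_one] at hw2
    rw [hw2, orderOf_one] at hu2
    omega

end Cfsg.Agent.Blocks.DihedralRank
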