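import Mathlib
import Cfsg.Agent.Lib.Blocks.HeightBound
import Cfsg.Agent.Lib.Blocks.DihedralRank.Group
import Cfsg.Agent.Lib.PLocal.SolvableSeparable

/-!
# Tame blocks of solvable groups have at most two Brauer characters
-/

set_option linter.style.haveILetI false
set_option linter.unusedSectionVars false

namespace Cfsg.Agent.Blocks.DihedralRank

open Cfsg.Agent.Characters Cfsg.Agent.BlockCharsA.NormalSupport
open Cfsg.Agent.CharTheory Cfsg.Agent.Blocks
open scoped ComplexConjugate

universe u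

variable {G : Type u} [Group G] [Finite G]

/-- A character lying over one invariant character is, on each coset generating a cyclic quotient,
a multiple of one function. -/
theorem coset_function (N : Subgroup G) [N.Normal] [Fintype N] [Fintype G]
    (hcyc : IsCyclic (G ⧸ N)) {θ : N → ℂ} (hθ : Cfsg.IsIrrCharacter N θ)
    (hinv : ∀ g : G, Clifford.conjBy N g θ = θ) :
    ∃ F : G → ℂ, ∀ f : G → ℂ, Cfsg.IsCharacter G f → (∃ e : ℂ, (fun n : N => f n) = e • θ) →
      ∀ a : G, ∃ c : ℂ, ∀ n : N, f (a * n) = c * F (a * n) := by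
  classical
  haveI := Fintype.ofFinite (Cfsg.IrrCharacter G)
  obtain ⟨χ, hχ, hχN⟩ := ExtendChar.exists_extension_cyclic N hcyc hθ hinv
  have hres : (fun n : N => χ n) = θ := funext hχN
  refine ⟨χ, fun f hf he => ?_⟩
  obtain ⟨e, he⟩ := he
  set m : Cfsg.IrrCharacter G → ℂ := fun ψ => Cfsg.classInner f (ψ : G → ℂ) with hm
  have hexp : f = ∑ ψ : Cfsg.IrrCharacter G, m ψ • (ψ : G → ℂ) :=
    classFun_eq_sum (char_isClassFunction hf)
  have hkey : ∀ ψ : Cfsg.IrrCharacter G,
      m ψ • (Average.quotChar N χ (ψ : G → ℂ) * χ) = m ψ • (ψ : G → ℂ) := by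
    intro ψ
    by_cases hcon : Cfsg.classInner (fun n : N => (ψ : G → ℂ) n) θ = 0
    · suffices m ψ = 0 by rw [this, zero_smul, zero_smul]
      have h1 : Cfsg.classInner (fun n : N => f n) (fun n : N => (ψ : G → ℂ) n) = 0 := by
        rw [he, classInner_smul_left, classInner_conj_symm (fun n : N => (ψ : G → ℂ) n), hcon,
          map_zero, mul_zero]
      rw [show (fun n : N => f n) = ∑ η : Cfsg.IrrCharacter G, m η • fun n : N => (η : G → ℂ) n by
        funext n
        have := congrFun hexp (n : G)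
        simpa [Finset.sum_apply] using this, classInner_sum_left] at h1
      simp only [classInner_smul_left] at h1
      choose k hk using fun η : Cfsg.IrrCharacter G => classInner_char_nat hf (irr_isCharacter η)
      choose l hl using fun η : Cfsg.IrrCharacter G => classInner_char_nat
        (isCharacter_restrict N (irr_isCharacter η))
        (isCharacter_restrict N (irr_isCharacter ψ))
      simp only [hm, hk, hl] at h1
      rw [← Finset.sum_congr rfl (fun η _ => Nat.cast_mul (k η) (l η)), ← Nat.cast_sum,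
        Nat.cast_eq_zero, Finset.sum_eq_zero_iff] at h1
      rcases Nat.mul_eq_zero.1 (h1 ψ (Finset.mem_univ _)) with h2 | h2
      · simp only [hm, hk, h2, Nat.cast_zero]
      · exfalso
        have h3 := hl ψ
        rw [h2, Nat.cast_zero, classInner_self_eq_zero] at h3
        exact irr_one_ne_zero ψ.2 (congrFun h3 1)
    · rw [(Average.gallagher N hχ (hres ▸ hθ) ψ.2 (by rw [hres]; exact hcon)).2]
  have hprod : Average.quotChar N χ f * χ = f := by
    have hlin : Average.quotChar N χ f = ∑ ψ : Cfsg.IrrCharacter G,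
        m ψ • Average.quotChar N χ (ψ : G → ℂ) := by
      simp only [Average.quotChar]
      rw [← Average.avg_sum_smul]
      congr 1
      funext g
      have := congrFun hexp g
      simp only [Finset.sum_apply, Pi.smul_apply, smul_eq_mul] at this ⊢
      rw [this, Finset.sum_mul]
      exact Finset.sum_congr rfl fun ψ _ => by ring
    rw [hlin, Finset.sum_mul]
    conv_rhs => rw [hexp]
    exact Finset.sum_congr rfl fun ψ _ => by rw [smul_mul_assoc, hkey]
  intro a
  refine ⟨Average.quotChar N χ f a, fun n => ?_⟩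
  have h1 : Average.quotChar N χ f (a * n) = Average.quotChar N χ f a := by
    rw [show a * (n : G) = ((⟨a * n * a⁻¹,
      (inferInstance : N.Normal).conj_mem (n : G) n.2 a⟩ : N) : G) * a by simp,
      Average.quotChar_mul_left]
  rw [← h1]
  exact (congrFun hprod (a * n)).symm

/-- The same inside a group with a normal subgroup: over the preimage of a cyclic subgroup. -/
theorem coset_function_sub {N : Subgroup G} [N.Normal] [Fintype N] (θ : Cfsg.IrrCharacter N)
    (hinv : ∀ g : G, conjIrr g θ = θ) (a : G) :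
    ∃ F : G → ℂ, ∀ f : G → ℂ, Cfsg.IsCharacter G f →
      (∃ e : ℂ, (fun n : N => f n) = e • (θ : N → ℂ)) →
      ∃ c : ℂ, ∀ n : N, f (a * n) = c * F (a * n) := by
  classical
  set H := (Subgroup.zpowers (QuotientGroup.mk' N a)).comap (QuotientGroup.mk' N) with hH
  have hNH : N ≤ H := fun n hn => by
    show QuotientGroup.mk' N n ∈ Subgroup.zpowers _
    rw [show QuotientGroup.mk' N n = 1 from (QuotientGroup.eq_one_iff n).2 hn]
    exact one_mem _
  have haH : a ∈ H := Subgroup.mem_zpowers _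
  haveI := Fintype.ofFinite H
  haveI := Fintype.ofFinite (N.subgroupOf H)
  let σ : N.subgroupOf H ≃* N := Subgroup.subgroupOfEquivOfLe hNH
  have hcyc : IsCyclic (H ⧸ N.subgroupOf H) := by
    refine ⟨⟨QuotientGroup.mk' _ ⟨a, haH⟩, fun q => ?_⟩⟩
    obtain ⟨⟨h, hh⟩, rfl⟩ := QuotientGroup.mk'_surjective _ q
    obtain ⟨i, hi⟩ := Subgroup.mem_zpowers_iff.1 hh
    refine ⟨i, ?_⟩
    show QuotientGroup.mk' (N.subgroupOf H) ⟨a, haH⟩ ^ i = _
    rw [← map_zpow]
    refine QuotientGroup.eq.2 ?_
    rw [Subgroup.mem_subgroupOf]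
    rw [← map_zpow] at hi
    simpa using QuotientGroup.eq.1 hi
  have hθ' : Cfsg.IsIrrCharacter (N.subgroupOf H) ((θ : N → ℂ) ∘ σ) :=
    Basics.isIrrCharacter_comp_equiv σ θ.2
  obtain ⟨F, hF⟩ := coset_function (N.subgroupOf H) hcyc hθ' (fun g => funext fun n => by
    rw [Clifford.conjBy_apply]
    show (θ : N → ℂ) _ = (θ : N → ℂ) (σ n)
    have := congrFun (congrArg Subtype.val (hinv (g : G))) (σ n)
    rw [coe_conjIrr, Clifford.conjBy_apply] at this
    rw [← this]
    exact congrArg _ (Subtype.ext rfl))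
  refine ⟨fun g => if hg : g ∈ H then F ⟨g, hg⟩ else 0, fun f hf he => ?_⟩
  obtain ⟨e, he⟩ := he
  obtain ⟨c, hc⟩ := hF (fun h => f h) (isCharacter_restrict H hf)
    ⟨e, funext fun n => congrFun he (σ n)⟩ ⟨a, haH⟩
  refine ⟨c, fun n => ?_⟩
  have han : a * (n : G) ∈ H := mul_mem haH (hNH n.2)
  simp only [dif_pos han]
  exact hc ⟨⟨n, hNH n.2⟩, n.2⟩

open scoped _root_.Classical in
/-- The invariant case: the characters are combinations of two functions on the regular elements. -/
theorem rank_le_two_invariant [Fintype G] {M : Ideal Cfsg.AlgInt} (hM : Cfsg.IsPModular 2 M)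
    [Fact (Nat.Prime 2)] (hsolv : Cfsg.IsPSolvable 2 G) {N : Subgroup G} [N.Normal] [Fintype N]
    (hNdef : N = Cfsg.pPrimeCore 2 G) (θ : Cfsg.IrrCharacter N)
    (hinv : ∀ g : G, conjIrr g θ = θ) {B : Set (Cfsg.IrrCharacter G)} (hB : Cfsg.IsPBlock M B)
    {χ₀ : Cfsg.IrrCharacter G} (hχ₀ : χ₀ ∈ B)
    (hθ : Cfsg.classInner (fun n : N => (χ₀ : G → ℂ) n) (θ : N → ℂ) ≠ 0) {D : Subgroup G}
    (hD : Cfsg.IsDefectGroup 2 M B D) (hbig : BigCyclic D) :
    Cfsg.blockRank 2 B ≤ 2 := by
  obtain ⟨B₀, hB₀, hmem, -, hsyl⟩ := InvariantCore.invariant_block hM hsolv hNdef θ hinv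
  obtain rfl : B = B₀ := block_eq_of_mem hM hB hB₀ hχ₀ ((hmem χ₀).2 hθ)
  obtain ⟨S, rfl⟩ := hsyl D hD
  set π := QuotientGroup.mk' N with hπ
  have hπs := QuotientGroup.mk'_surjective N
  have hN2 : ¬ 2 ∣ Nat.card N := hNdef ▸ PLocal.Cores.not_dvd_card_pPrimeCore (by norm_num)
  let S' : Sylow 2 (G ⧸ N) := S.mapSurjective hπs
  have hS' : (S' : Subgroup (G ⧸ N)) = (S : Subgroup G).map π := Sylow.coe_mapSurjective hπs S
  have hbig' : BigCyclic S' := by
    have hinj : Function.Injective (π.subgroupMap (S : Subgroup G)) := by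
      refine (injective_iff_map_eq_one _).2 fun d hd => ?_
      have hdN : (d : G) ∈ N := (QuotientGroup.eq_one_iff _).1 (congrArg Subtype.val hd)
      obtain ⟨k, hk⟩ := IsPGroup.iff_orderOf.1 S.isPGroup' d
      have h1 := orderOf_dvd_natCard (⟨(d : G), hdN⟩ : N)
      rw [Subgroup.orderOf_mk, Subgroup.orderOf_coe, hk] at h1
      refine orderOf_eq_one_iff.1 ?_
      rcases Nat.eq_zero_or_pos k with rfl | hk0
      · rw [hk, pow_zero]
      · exact absurd ((dvd_pow_self 2 (by omega)).trans h1) hN2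
    exact bigCyclic_congr ((MulEquiv.ofBijective _
      ⟨hinj, π.subgroupMap_surjective _⟩).trans (MulEquiv.subgroupCongr hS'.symm)) hbig
  have hO : Cfsg.pPrimeCore 2 (G ⧸ N) = ⊥ := by
    subst hNdef; exact Cores.pPrimeCore_quotient_self 2
  have hcent := PLocal.PSolvable.centralizer_pCore_le hO
    (PLocal.PSolvable.subgroup (PLocal.PSolvable.quotient hsolv N) _)
  obtain ⟨a₀, b₀, hab⟩ := regular_classes hcent S' hbig'
  obtain ⟨a, rfl⟩ := hπs a₀
  obtain ⟨b, rfl⟩ := hπs b₀
  obtain ⟨Fa, hFa⟩ := coset_function_sub θ hinv a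
  obtain ⟨Fb, hFb⟩ := coset_function_sub θ hinv b
  have hex : ∀ y : G, Cfsg.IsPRegular 2 y → ∃ x : G, π (x * y * x⁻¹) = π a ∨
      π (x * y * x⁻¹) = π b := by
    intro y hy
    have ho : Odd (orderOf (π y)) := by
      rw [← Nat.not_even_iff_odd, even_iff_two_dvd]
      exact fun h => hy (h.trans (orderOf_map_dvd π y))
    rcases hab _ ho with h | h <;> obtain ⟨q, hq⟩ := isConj_iff.1 h.symm <;>
      obtain ⟨x, rfl⟩ := hπs q <;> refine ⟨x, ?_⟩ <;> rw [map_mul, map_mul, map_inv]
    exacts [Or.inl hq, Or.inr hq]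
  choose! X hX using hex
  set Ga : G → ℂ := fun y => if Cfsg.IsPRegular 2 y ∧ π (X y * y * (X y)⁻¹) = π a
    then Fa (X y * y * (X y)⁻¹) else 0 with hGa
  set Gb : G → ℂ := fun y => if Cfsg.IsPRegular 2 y ∧ ¬ π (X y * y * (X y)⁻¹) = π a
    then Fb (X y * y * (X y)⁻¹) else 0 with hGb
  have hle : Submodule.span ℂ
      ((fun χ : Cfsg.IrrCharacter G => Cfsg.pRegularPart 2 (χ : G → ℂ)) '' B) ≤
      Submodule.span ℂ ({Ga, Gb} : Finset (G → ℂ)) := by
    rw [Submodule.span_le]
    rintro _ ⟨χ, hχ, rfl⟩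
    have hcl : ∀ g : G, Clifford.conjBy N g (θ : N → ℂ) = θ := fun g =>
      congrArg Subtype.val (hinv g)
    have he : ∃ e : ℂ, (fun n : N => (χ : G → ℂ) n) = e • (θ : N → ℂ) :=
      ⟨_, Clifford.restrict_eq_smul_of_invariant N χ.2 θ.2 ((hmem χ).1 hχ) hcl⟩
    obtain ⟨ca, hca⟩ := hFa _ (irr_isCharacter χ) he
    obtain ⟨cb, hcb⟩ := hFb _ (irr_isCharacter χ) he
    have hval : Cfsg.pRegularPart 2 (χ : G → ℂ) = ca • Ga + cb • Gb := by
      funext y
      simp only [Pi.add_apply, Pi.smul_apply, smul_eq_mul, hGa, hGb, Cfsg.pRegularPart]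
      by_cases hy : Cfsg.IsPRegular 2 y
      swap
      · simp [hy]
      have hconj : (χ : G → ℂ) y = (χ : G → ℂ) (X y * y * (X y)⁻¹) :=
        (irr_isClassFunction χ y (X y)).symm
      by_cases hA : π (X y * y * (X y)⁻¹) = π a
      · have h1 := hca ⟨a⁻¹ * (X y * y * (X y)⁻¹), QuotientGroup.eq.1 hA.symm⟩
        simp only [mul_inv_cancel_left] at h1
        simp only [hy, hA, hconj, h1, and_self, not_true, not_false_iff, and_false, if_true,
          if_false, mul_zero, zero_add, add_zero]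
      · have h1 := hcb ⟨b⁻¹ * (X y * y * (X y)⁻¹),
          QuotientGroup.eq.1 ((hX y hy).resolve_left hA).symm⟩
        simp only [mul_inv_cancel_left] at h1
        simp only [hy, hA, hconj, h1, and_self, not_true, not_false_iff, and_false, if_true,
          if_false, mul_zero, zero_add, add_zero]
    show Cfsg.pRegularPart 2 (χ : G → ℂ) ∈ _
    rw [hval]
    exact add_mem (Submodule.smul_mem _ _ (Submodule.subset_span (by simp)))
      (Submodule.smul_mem _ _ (Submodule.subset_span (by simp)))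
  refine (Submodule.finrank_mono hle).trans ((finrank_span_finset_le_card _).trans ?_)
  exact Finset.card_le_two

theorem rank_le_two_aux {M : Ideal Cfsg.AlgInt} (hM : Cfsg.IsPModular 2 M)
    [Fact (Nat.Prime 2)] : ∀ n : ℕ,
    ∀ (G : Type u) [Group G] [Finite G], Nat.card G ≤ n → Cfsg.IsPSolvable 2 G →
      ∀ (B : Set (Cfsg.IrrCharacter G)), Cfsg.IsPBlock M B → ∀ D : Subgroup G,
        Cfsg.IsDefectGroup 2 M B D → BigCyclic D → Cfsg.blockRank 2 B ≤ 2 := by
  intro n
  induction n with
  | zero => intro G _ _ h; exact absurd h (Nat.not_le.2 Nat.card_pos)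
  | succ n ih =>
    intro G _ _ hn hsolv B hB P hP hbig
    classical
    haveI := Fintype.ofFinite G
    obtain ⟨N, hN⟩ : ∃ N, N = Cfsg.pPrimeCore 2 G := ⟨_, rfl⟩
    haveI : N.Normal := hN ▸ Cores.pPrimeCore_normal 2
    haveI := Fintype.ofFinite N
    have hNp : ¬ 2 ∣ Nat.card N := hN ▸ PLocal.Cores.not_dvd_card_pPrimeCore (by norm_num)
    obtain ⟨χ, hχ⟩ := block_nonempty hM hB
    obtain ⟨θ, hθ⟩ := exists_under (N := N) χ
    have hb : Cfsg.IsPBlock M ({θ} : Set (Cfsg.IrrCharacter N)) :=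
      ⟨θ, Set.ext fun η => ⟨fun h => (Set.mem_singleton_iff.1 h).symm ▸ mem_blockOf_self hM θ,
        fun h => Set.mem_singleton_iff.2 (sameBlock_eq_of_coprime hM hNp (mem_blockOf.1 h)).symm⟩⟩
    let T : Subgroup G :=
      { carrier := {g | conjIrr g θ = θ}
        one_mem' := conjIrr_one θ
        mul_mem' := fun {a b} ha hb => by
          show conjIrr (a * b) θ = θ
          rw [← conjIrr_conjIrr, show conjIrr a θ = θ from ha, show conjIrr b θ = θ from hb]
        inv_mem' := fun {a} ha => by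
          show conjIrr a⁻¹ θ = θ
          conv_lhs => rw [← show conjIrr a θ = θ from ha, conjIrr_conjIrr, mul_inv_cancel]
          rw [conjIrr_one] }
    by_cases hT : ∀ g : G, conjIrr g θ = θ
    · exact rank_le_two_invariant hM hsolv hN θ hT hB hχ hθ hP hbig
    push Not at hT
    obtain ⟨g₀, hg₀⟩ := hT
    have hTlt : Nat.card T < Nat.card G := by
      refine lt_of_le_of_ne (Nat.card_le_card_of_injective _ T.subtype_injective) fun h => hg₀ ?_
      have : g₀ ∈ T := by rw [(Subgroup.card_eq_iff_eq_top T).1 h]; trivial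
      exact this
    have hNT : N ≤ T := fun m hm => Subtype.ext (funext fun x => by
      rw [coe_conjIrr, Clifford.conjBy_apply]
      exact irr_isClassFunction θ x ⟨m, hm⟩)
    have hs : ∀ g : G, g ∈ T ↔ ∀ η ∈ ({θ} : Set (Cfsg.IrrCharacter N)),
        ∀ η' : Cfsg.IrrCharacter N, (∀ x : N, (η' : N → ℂ) x = (η : N → ℂ)
          ⟨g * x * g⁻¹, (inferInstance : N.Normal).conj_mem x x.2 g⟩) →
          η' ∈ ({θ} : Set (Cfsg.IrrCharacter N)) := by
      intro g
      constructor
      · rintro hg η rfl η' h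
        exact Set.mem_singleton_iff.2 ((Subtype.ext (funext h)).trans (show conjIrr g η = η from hg))
      · intro h
        exact Set.mem_singleton_iff.1 (h θ rfl (conjIrr g θ) fun x => rfl)
    haveI := Fintype.ofFinite T
    obtain ⟨h1, -, h3⟩ := Cfsg.Agent.S4435.result 2 M hM N {θ} hb T hs hNT
    obtain ⟨B', hB', hcov, hind⟩ := h3 B hB ⟨χ, hχ, θ, rfl, hθ⟩
    obtain ⟨B₁, hi₁, -, -, hmem⟩ := h1 B' hB' hcov
    obtain rfl : B₁ = B := isInduced_unique hM hi₁ hind
    obtain ⟨hdef, -⟩ := Cfsg.Agent.S4436.result 2 M hM N {θ} hb T hs hNT B' hB' hcov B₁ hind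
    obtain ⟨D, hD⟩ := exists_defectGroup hM hB'
    obtain ⟨x, hx⟩ := exists_defectGroup_conj_eq hM hB (hdef D hD) hP
    let e : D ≃* P := ((Subgroup.equivMapOfInjective D T.subtype T.subtype_injective).trans
      (Subgroup.equivMapOfInjective (D.map T.subtype) (MulAut.conj x).toMonoidHom
        (MulAut.conj x).injective)).trans (MulEquiv.subgroupCongr hx.symm)
    have h4 := ih T (by omega) (PLocal.PSolvable.subgroup hsolv T) B' hB' D hD
      (bigCyclic_congr e.symm hbig)
    refine le_trans ?_ h4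
    have hext_add : ∀ (f f' : T → ℂ) (y : G), Cfsg.extendByZero T (f + f') y =
        Cfsg.extendByZero T f y + Cfsg.extendByZero T f' y := fun f f' y => by
      by_cases hy : y ∈ T
      · simp only [IndBasic.extendByZero_of_mem T _ hy, Pi.add_apply]
      · simp only [IndBasic.extendByZero_of_notMem T _ hy, add_zero]
    have hext_smul : ∀ (c : ℂ) (f : T → ℂ) (y : G), Cfsg.extendByZero T (c • f) y =
        c * Cfsg.extendByZero T f y := fun c f y => by
      by_cases hy : y ∈ T
      · simp only [IndBasic.extendByZero_of_mem T _ hy, Pi.smul_apply, smul_eq_mul]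
      · simp only [IndBasic.extendByZero_of_notMem T _ hy, mul_zero]
    let L : (T → ℂ) →ₗ[ℂ] (G → ℂ) :=
      { toFun := fun f => Cfsg.indFun T f
        map_add' := fun f f' => funext fun g => by
          simp only [Cfsg.indFun, Pi.add_apply, ← mul_add, ← Finset.sum_add_distrib, hext_add]
        map_smul' := fun c f => funext fun g => by
          simp only [Cfsg.indFun, Pi.smul_apply, smul_eq_mul, RingHom.id_apply, hext_smul,
            ← Finset.mul_sum]
          ring }
    have hext_reg : ∀ (f : T → ℂ) (y : G), Cfsg.extendByZero T (Cfsg.pRegularPart 2 f) y =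
        if Cfsg.IsPRegular 2 y then Cfsg.extendByZero T f y else 0 := fun f y => by
      by_cases hy : y ∈ T
      · simp only [IndBasic.extendByZero_of_mem T _ hy, Cfsg.pRegularPart, Cfsg.IsPRegular,
          Subgroup.orderOf_mk]
      · simp only [IndBasic.extendByZero_of_notMem T _ hy, ite_self]
    have hreg : ∀ f : T → ℂ, Cfsg.pRegularPart 2 (Cfsg.indFun T f) =
        L (Cfsg.pRegularPart 2 f) := by
      intro f
      funext g
      show _ = Cfsg.indFun T (Cfsg.pRegularPart 2 f) g
      have hord : ∀ z : G, Cfsg.IsPRegular 2 (z⁻¹ * g * z) ↔ Cfsg.IsPRegular 2 g := fun z => by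
        simp only [Cfsg.IsPRegular]
        rw [show orderOf (z⁻¹ * g * z) = orderOf g by
          simpa using MulEquiv.orderOf_eq (MulAut.conj z⁻¹) g]
      simp only [Cfsg.indFun, hext_reg]
      by_cases hg : Cfsg.IsPRegular 2 g
      · simp [Cfsg.pRegularPart, Cfsg.indFun, hg, hord]
      · simp [Cfsg.pRegularPart, hg, hord]
    show Module.finrank ℂ _ ≤ _
    refine le_trans (Submodule.finrank_mono (t := (Submodule.span ℂ
      ((fun ψ : Cfsg.IrrCharacter T => Cfsg.pRegularPart 2 (ψ : T → ℂ)) '' B')).map L) ?_)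
      (Submodule.finrank_map_le L _)
    rw [Submodule.span_le]
    rintro _ ⟨η, hη, rfl⟩
    obtain ⟨ψ, hψ, hψe⟩ := (hmem η).1 hη
    exact ⟨_, Submodule.subset_span ⟨ψ, hψ, rfl⟩, by rw [← hreg, ← hψe]⟩

/-- A block of a solvable group with such a defect group has at most two Brauer characters. -/
theorem rank_le_two_solvable {M : Ideal Cfsg.AlgInt} (hM : Cfsg.IsPModular 2 M)
    [Group.IsSolvable G] {B : Set (Cfsg.IrrCharacter G)} (hB : Cfsg.IsPBlock M B) {D : Subgroup G}
    (hD : Cfsg.IsDefectGroup 2 M B D) (hbig : BigCyclic D) : Cfsg.blockRank 2 B ≤ 2 :=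
  haveI : Fact (Nat.Prime 2) := ⟨Nat.prime_two⟩
  rank_le_two_aux hM _ G le_rfl (PLocal.SolvableSeparable.isPSolvable_of_isSolvable 2 G)
    B hB D hD hbig

end Cfsg.Agent.Blocks.DihedralRank
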